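import Groth.Agent.EGA43.DeltaInvariance

/-!
# The delta invariant and base change of a local algebra over a field
-/

set_option autoImplicit false
set_option backward.isDefEq.respectTransparency false
set_option linter.style.haveILetI false

universe u

open IsLocalRing TensorProduct

namespace Groth.Agent.EGA43.DeltaBaseChange

open DeltaInvariance

theorem deltaInv_congr {A B : Type u} [CommRing A] [CommRing B] (e : A ≃+* B) :
    Curv2.deltaInv A = Curv2.deltaInv B := by
  letI : Algebra A B := e.toRingHom.toAlgebra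
  have hsurj : Function.Surjective (algebraMap A B) := e.surjective
  haveI : Algebra.IsIntegral A B := ⟨fun b => by obtain ⟨a, rfl⟩ := hsurj b; exact isIntegral_algebraMap⟩
  haveI : IsFractionRing A (FractionRing B) := by
    refine IsFractionRing.of_ringEquiv_left e fun a => ?_
    exact (IsScalarTower.algebraMap_apply A B (FractionRing B) a).symm
  let ψ : FractionRing A ≃ₐ[A] FractionRing B := FractionRing.algEquiv A (FractionRing B)
  have hmem : ∀ z, IsIntegral B (ψ z) ↔ IsIntegral A z := fun z =>
    ⟨fun h => (isIntegral_algHom_iff ψ.toAlgHom ψ.injective).1 (isIntegral_trans _ h),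
      fun h => (h.map ψ).tower_top⟩
  let L : integralClosure A (FractionRing A) →ₗ[A] integralClosure B (FractionRing B) :=
    { toFun := fun z => ⟨ψ z.1, (hmem _).2 z.2⟩
      map_add' := fun x y => Subtype.ext (map_add ψ x.1 y.1)
      map_smul' := fun r x => Subtype.ext (map_smul ψ r x.1) }
  have hL : Function.Bijective L :=
    ⟨fun x y h => Subtype.ext (ψ.injective (congrArg Subtype.val h)), fun z =>
      ⟨⟨ψ.symm z.1, (hmem _).1 (by rw [AlgEquiv.apply_symm_apply]; exact z.2)⟩,
        Subtype.ext (ψ.apply_symm_apply z.1)⟩⟩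
  let N := (LinearMap.range (Algebra.linearMap B (integralClosure B (FractionRing B)))).restrictScalars A
  have hN : Submodule.map (LinearEquiv.ofBijective L hL : integralClosure A (FractionRing A) →ₗ[A] _)
      (LinearMap.range (Algebra.linearMap A (integralClosure A (FractionRing A)))) = N := by
    refine le_antisymm ?_ ?_
    · rintro _ ⟨_, ⟨a, rfl⟩, rfl⟩
      exact ⟨algebraMap A B a, Subtype.ext ((IsScalarTower.algebraMap_apply A B (FractionRing B) a).symm.trans
        (ψ.commutes a).symm)⟩
    · rintro _ ⟨b, rfl⟩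
      obtain ⟨a, rfl⟩ := hsurj b
      exact ⟨_, ⟨a, rfl⟩, Subtype.ext ((ψ.commutes a).trans (IsScalarTower.algebraMap_apply A B (FractionRing B) a))⟩
  unfold Curv2.deltaInv
  rw [(Submodule.Quotient.equiv _ N (LinearEquiv.ofBijective L hL) hN).length_eq,
    (Submodule.Quotient.restrictScalarsEquiv A _).length_eq, Module.length_eq_of_surjective hsurj]

theorem length_tensor_ge {A B : Type u} [CommRing A] [CommRing B] [IsLocalRing A] [IsLocalRing B] [Algebra A B]
    [IsLocalHom (algebraMap A B)] [Module.Flat A B]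
    (M : Type u) [AddCommGroup M] [Module A M] (hM : IsFiniteLength A M) :
    Module.length A M ≤ Module.length B (B ⊗[A] M) := by
  induction hM with
  | @of_subsingleton M _ _ _ => rw [Module.length_eq_zero]; exact zero_le
  | @of_simple_quotient M _ _ N _ hN ih =>
    rw [Module.length_eq_add_of_exact N.subtype N.mkQ N.injective_subtype (Submodule.mkQ_surjective N)
        (LinearMap.exact_subtype_mkQ N),
      Module.length_eq_add_of_exact (N.subtype.baseChange B) (N.mkQ.baseChange B)
        (Module.Flat.lTensor_preserves_injective_linearMap _ N.injective_subtype)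
        (LinearMap.lTensor_surjective B (Submodule.mkQ_surjective N))
        (lTensor_exact B (LinearMap.exact_subtype_mkQ N) (Submodule.mkQ_surjective N)),
      Module.length_eq_one A (M ⧸ N)]
    refine add_le_add ih ?_
    obtain ⟨I, hI, ⟨e⟩⟩ := isSimpleModule_iff_quot_maximal.1 (inferInstance : IsSimpleModule A (M ⧸ N))
    obtain rfl := IsLocalRing.eq_maximalIdeal hI
    let e' := (TensorProduct.AlgebraTensorModule.congr (LinearEquiv.refl B B) e).trans
      ((Algebra.TensorProduct.quotIdealMapEquivTensorQuot B (maximalIdeal A)).symm.toLinearEquiv)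
    rw [e'.length_eq]
    haveI : Nontrivial (B ⧸ (maximalIdeal A).map (algebraMap A B)) :=
      Ideal.Quotient.nontrivial_iff.2 fun h => (maximalIdeal.isMaximal B).ne_top
        (top_le_iff.1 (h ▸ ((IsLocalRing.local_hom_TFAE (algebraMap A B)).out 0 2 :
          _ ↔ (maximalIdeal A).map (algebraMap A B) ≤ maximalIdeal B).1 ‹IsLocalHom (algebraMap A B)›))
    exact Order.one_le_iff_pos.2 Module.length_pos

/-- The delta invariant can only grow along flat local homomorphisms. -/
theorem deltaInv_le {A B : Type u} [CommRing A] [IsLocalRing A] [IsReduced A] (hN : CAlg.IsNagata A)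
    (hdim : ringKrullDim A = 1) [CommRing B] [IsLocalRing B] [Algebra A B]
    [IsLocalHom (algebraMap A B)] [Module.Flat A B] :
    Curv2.deltaInv A ≤ Curv2.deltaInv B := by
  obtain ⟨hfin, hnorm, hδ⟩ := S7652.result A hN hdim
  haveI : Module.Finite A (integralClosure A (FractionRing A)) := hfin
  obtain ⟨θ, hθinj⟩ := exists_birational (A := A) (B := B) (integralClosure A (FractionRing A)).val
    Subtype.val_injective
  let A' := integralClosure A (FractionRing A)
  let θ' : B ⊗[A] A' →ₗ[B] integralClosure B (FractionRing B) :=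
    LinearMap.codRestrict (Subalgebra.toSubmodule (integralClosure B (FractionRing B))) θ.toLinearMap
      fun c => (Algebra.IsIntegral.isIntegral (R := B) c).map θ
  have hθ' : Function.Injective θ' := fun a b h => hθinj (congrArg Subtype.val h)
  let R := LinearMap.range (Algebra.linearMap A A')
  let q : B ⊗[A] A' →ₗ[B] B ⊗[A] (A' ⧸ R) := R.mkQ.baseChange B
  have hqs : Function.Surjective q := LinearMap.lTensor_surjective B (Submodule.mkQ_surjective _)
  have hex : Function.Exact ((Algebra.linearMap A A').lTensor B) (R.mkQ.lTensor B) :=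
    lTensor_exact B (LinearMap.exact_map_mkQ_range _) (Submodule.mkQ_surjective _)
  let S := LinearMap.range (Algebra.linearMap B (integralClosure B (FractionRing B)))
  have hval : ∀ b : B, θ' (b ⊗ₜ[A] (1 : A')) = algebraMap B _ b := fun b => Subtype.ext (θ.commutes b)
  have hker : LinearMap.ker q = S.comap θ' := by
    refine le_antisymm ?_ ?_
    · intro c hc
      obtain ⟨w, hw⟩ := (hex c).1 hc
      exact ⟨TensorProduct.rid A B w, (hval _).symm.trans (congrArg θ' ((range_eq w).symm.trans hw))⟩
    · rintro c ⟨b, hb⟩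
      rw [← hθ' ((hval b).trans hb)]
      exact (hex _).2 ⟨b ⊗ₜ[A] (1 : A), by simp⟩
  have hinj : Function.Injective (Submodule.mapQ (LinearMap.ker q) S θ' hker.le) := by
    rw [← LinearMap.ker_eq_bot, Submodule.mapQ, Submodule.ker_liftQ_eq_bot]
    rw [LinearMap.ker_comp, Submodule.ker_mkQ, ← hker]
  calc Curv2.deltaInv A ≤ Module.length B (B ⊗[A] (A' ⧸ R)) :=
        length_tensor_ge _ (Module.length_ne_top_iff.1 hδ.ne)
    _ = Module.length B ((B ⊗[A] A') ⧸ LinearMap.ker q) := (q.quotKerEquivOfSurjective hqs).length_eq.symm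
    _ ≤ Curv2.deltaInv B := Module.length_le_of_injective _ hinj

section BaseChange

variable {k O : Type u} [Field k] [CommRing O] [IsLocalRing O] [Algebra k O] {K : Type u} [Field K] [Algebra k K]
  (P : Ideal (O ⊗[k] K)) [P.IsPrime] (hP : P.comap (algebraMap O (O ⊗[k] K)) = maximalIdeal O)

instance : Module.Flat O (Localization.AtPrime P) :=
  haveI : Module.Flat O (O ⊗[k] K) := inferInstance
  haveI : Module.Flat (O ⊗[k] K) (Localization.AtPrime P) := IsLocalization.flat _ P.primeCompl
  Module.Flat.trans O (O ⊗[k] K) (Localization.AtPrime P)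

include hP in
theorem isLocalHom : IsLocalHom (algebraMap O (Localization.AtPrime P)) := by
  refine ⟨fun a ha => ?_⟩
  by_contra h
  rw [← mem_nonunits_iff, ← IsLocalRing.mem_maximalIdeal, ← hP, Ideal.mem_comap] at h
  have h' := (IsLocalization.AtPrime.to_map_mem_maximal_iff (Localization.AtPrime P) P _).2 h
  rw [← IsScalarTower.algebraMap_apply] at h'
  exact h' ha

include hP in
theorem deltaInv_le_localization [IsReduced O] (hN : CAlg.IsNagata O) (hdim : ringKrullDim O = 1) :
    Curv2.deltaInv O ≤ Curv2.deltaInv (Localization.AtPrime P) :=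
  haveI := isLocalHom P hP
  deltaInv_le hN hdim

theorem isReduced_localization_tensor (l : Type u) [CommRing l] [Algebra O l] [Algebra k l] [IsScalarTower k O l]
    [_root_.IsReduced (l ⊗[k] K)] : _root_.IsReduced (Localization.AtPrime P ⊗[O] l) := by
  let T := (O ⊗[k] K) ⊗[O] l
  haveI : _root_.IsReduced T :=
    let e := (Algebra.TensorProduct.comm O (O ⊗[k] K) l).trans
      (Algebra.TensorProduct.cancelBaseChange k O O l K)
    isReduced_of_injective e e.injective
  haveI : _root_.IsReduced (T ⊗[O ⊗[k] K] Localization.AtPrime P) :=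
    isReduced_localizationPreserves (Algebra.algebraMapSubmonoid T P.primeCompl)
      (T ⊗[O ⊗[k] K] Localization.AtPrime P) inferInstance
  let e := ((Algebra.TensorProduct.cancelBaseChange O (O ⊗[k] K) (O ⊗[k] K) (Localization.AtPrime P) l).symm.trans
    (Algebra.TensorProduct.comm (O ⊗[k] K) (Localization.AtPrime P) T))
  exact isReduced_of_injective e e.injective

theorem map_maximalIdeal {A B : Type u} [CommRing A] [IsLocalRing A] [CommRing B] [IsLocalRing B] [Algebra A B]
    [IsLocalHom (algebraMap A B)] [Module.Flat A B] (hA : ringKrullDim A = 1) (hB : ringKrullDim B = 1)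
    [_root_.IsReduced (B ⊗[A] (A ⧸ maximalIdeal A))] :
    (maximalIdeal A).map (algebraMap A B) = maximalIdeal B := by
  haveI : _root_.IsReduced (B ⧸ (maximalIdeal A).map (algebraMap A B)) :=
    isReduced_of_injective (Algebra.TensorProduct.quotIdealMapEquivTensorQuot B (maximalIdeal A))
      (Algebra.TensorProduct.quotIdealMapEquivTensorQuot B (maximalIdeal A)).injective
  have hrad : ((maximalIdeal A).map (algebraMap A B)).IsRadical :=
    (Ideal.isRadical_iff_quotient_reduced _).2 inferInstance
  have hcm : (maximalIdeal B).comap (algebraMap A B) = maximalIdeal A :=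
    ((IsLocalRing.local_hom_TFAE (algebraMap A B)).out 0 4 :
      _ ↔ (maximalIdeal B).comap (algebraMap A B) = maximalIdeal A).1 ‹IsLocalHom (algebraMap A B)›
  refine le_antisymm (Ideal.map_le_iff_le_comap.2 hcm.ge) ?_
  rw [← hrad.radical, Ideal.radical_eq_sInf]
  refine le_sInf fun Q ⟨hQle, hQ⟩ => ?_
  haveI := hQ
  refine le_of_eq (by_contra fun hne => ?_)
  haveI : Ring.KrullDimLE 1 B := Ring.krullDimLE_iff.2 hB.le
  have hQmin : Q ∈ minimalPrimes B := (Ring.krullDimLE_one_iff.mp inferInstance Q hQ).resolve_right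
    fun h => hne (IsLocalRing.eq_maximalIdeal h).symm
  have hQA : Q.comap (algebraMap A B) = maximalIdeal A :=
    (maximalIdeal.isMaximal A).eq_of_le (Ideal.comap_ne_top _ hQ.ne_top) (Ideal.map_le_iff_le_comap.1 hQle) |>.symm
  obtain ⟨p, hp, hpm⟩ := Ideal.exists_minimalPrimes_le (bot_le : (⊥ : Ideal A) ≤ maximalIdeal A)
  haveI : p.IsPrime := hp.1.1
  have hpne : p ≠ maximalIdeal A := fun h => by
    have h0 : (maximalIdeal A).height = 0 := by
      rw [Ideal.height_eq_zero_iff]; exact h ▸ hp
    rw [← IsLocalRing.maximalIdeal_height_eq_ringKrullDim, h0] at hA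
    simp at hA
  haveI : Q.LiesOver (maximalIdeal A) := ⟨hQA.symm⟩
  obtain ⟨Q0, hQ0, hQ0p, hQ0A⟩ := Ideal.exists_ideal_lt_liesOver_of_lt Q (lt_of_le_of_ne hpm hpne)
  haveI := hQ0p
  exact hQ0.ne (le_antisymm hQ0.le (hQmin.2 ⟨hQ0p, bot_le⟩ hQ0.le))

theorem isReduced_residue_of_map_eq {A B l : Type u} [CommRing A] [IsLocalRing A] [CommRing B] [IsLocalRing B]
    [Algebra A B] [CommRing l] [Algebra A l] (hm : (maximalIdeal A).map (algebraMap A B) = maximalIdeal B)
    (hl : ∀ r ∈ maximalIdeal A, r • (1 : l) = 0) [_root_.IsReduced (B ⊗[A] l)] :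
    _root_.IsReduced (ResidueField B ⊗[A] l) := by
  have h0 : ∀ b ∈ maximalIdeal B, b ⊗ₜ[A] (1 : l) = 0 := by
    intro b hb
    rw [← hm] at hb
    have : (maximalIdeal A).map (algebraMap A B) ≤
        RingHom.ker (Algebra.TensorProduct.includeLeft : B →ₐ[A] B ⊗[A] l).toRingHom :=
      Ideal.map_le_iff_le_comap.2 fun r hr => by
        show (algebraMap A B r) ⊗ₜ[A] (1 : l) = 0
        rw [Algebra.algebraMap_eq_smul_one, TensorProduct.smul_tmul, hl r hr, TensorProduct.tmul_zero]
    exact this hb
  let g : ResidueField B →ₐ[A] B ⊗[A] l :=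
    Ideal.Quotient.liftₐ (maximalIdeal B) Algebra.TensorProduct.includeLeft h0
  let ψ : ResidueField B ⊗[A] l →ₐ[A] B ⊗[A] l :=
    Algebra.TensorProduct.lift g Algebra.TensorProduct.includeRight fun _ _ => Commute.all _ _
  let φ : B ⊗[A] l →ₐ[A] ResidueField B ⊗[A] l :=
    Algebra.TensorProduct.map (IsScalarTower.toAlgHom A B (ResidueField B)) (AlgHom.id A _)
  have hinv : ∀ z, φ (ψ z) = z := fun z => by
    have : φ.comp ψ = AlgHom.id A _ := Algebra.TensorProduct.ext' fun x a => by
      obtain ⟨b, rfl⟩ := residue_surjective x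
      show φ (b ⊗ₜ 1 * 1 ⊗ₜ a) = residue B b ⊗ₜ a
      rw [Algebra.TensorProduct.tmul_mul_tmul, mul_one, one_mul]
      rfl
    exact AlgHom.congr_fun this z
  exact isReduced_of_injective ψ (Function.LeftInverse.injective hinv)

/-- Base change by a field keeps the delta invariant when residue fields of the normalization are separable. -/
theorem deltaInv_localization_eq [IsReduced O] (hN : CAlg.IsNagata O) (hdim : ringKrullDim O = 1)
    [IsNoetherianRing (Localization.AtPrime P)] (hdimB : ringKrullDim (Localization.AtPrime P) = 1)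
    (hP : P.comap (algebraMap O (O ⊗[k] K)) = maximalIdeal O)
    (hred : ∀ (m' : Ideal (integralClosure O (FractionRing O))) [m'.IsMaximal],
      _root_.IsReduced ((integralClosure O (FractionRing O) ⧸ m') ⊗[k] K)) :
    Curv2.deltaInv (Localization.AtPrime P) = Curv2.deltaInv O := by
  haveI := isLocalHom P hP
  let A' := integralClosure O (FractionRing O)
  let B := Localization.AtPrime P
  obtain ⟨M, hM⟩ := Ideal.exists_maximal A'
  haveI := hM
  haveI : (M.comap (algebraMap O A')).IsMaximal := Ideal.isMaximal_comap_of_isIntegral_of_isMaximal M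
  haveI := hred M
  haveI : _root_.IsReduced ((O ⧸ maximalIdeal O) ⊗[k] K) := by
    let f : (O ⧸ maximalIdeal O) →ₐ[k] A' ⧸ M :=
      Ideal.quotientMapₐ M (IsScalarTower.toAlgHom k O A') (IsLocalRing.eq_maximalIdeal ‹_›).ge
    exact isReduced_of_injective (Algebra.TensorProduct.map f (AlgHom.id k K))
      (Module.Flat.rTensor_preserves_injective_linearMap f.toLinearMap
        (Ideal.quotientMap_injective' (H := (IsLocalRing.eq_maximalIdeal ‹_›).ge) (IsLocalRing.eq_maximalIdeal ‹_›).le))
  haveI : _root_.IsReduced (B ⊗[O] (O ⧸ maximalIdeal O)) := isReduced_localization_tensor P (O ⧸ maximalIdeal O)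
  have hm := map_maximalIdeal (A := O) (B := B) hdim hdimB
  refine deltaInv_eq hN hdim hm fun m' _ => ?_
  haveI := hred m'
  haveI := isReduced_localization_tensor P (A' ⧸ m')
  haveI : (m'.comap (algebraMap O A')).IsMaximal := Ideal.isMaximal_comap_of_isIntegral_of_isMaximal m'
  refine isReduced_residue_of_map_eq (l := A' ⧸ m') hm fun r hr => ?_
  rw [Algebra.smul_def, mul_one]
  exact Ideal.Quotient.eq_zero_iff_mem.2 ((IsLocalRing.eq_maximalIdeal (I := m'.comap (algebraMap O A')) ‹_›).ge hr)

end BaseChange

end Groth.Agent.EGA43.DeltaBaseChange
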