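import Groth.Agent.EGA43.DeltaBaseChange.Ring
import Groth.Agent.VarietyLib.GeomReducedPt
import Groth.Agent.VarietyLib.NormStalk
import Groth.Agent.NormalizationLib.Finite
import Groth.Agent.S4710

/-!
# The delta invariant of a curve singularity under extension of the base field
-/

set_option autoImplicit false
set_option backward.isDefEq.respectTransparency false
set_option linter.style.haveILetI false

universe u

open CategoryTheory CategoryTheory.Limits AlgebraicGeometry IsLocalRing TensorProduct
open Groth.Agent.VarietyLib Groth.Agent.VarietyLib.NormStalk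

attribute [local instance] Curv2.stalkAlgebra

namespace Groth.Agent.EGA43.DeltaBaseChange

variable (k : Type u) [Field k] (X : Scheme.{u}) [X.Over (Spec (CommRingCat.of k))]
  [LocallyOfFiniteType (X ↘ (Spec (CommRingCat.of k)))]

include k in
theorem isNagata_stalk (x : X) : CAlg.IsNagata (X.presheaf.stalk x) := by
  obtain ⟨_, ⟨U, hU, rfl⟩, hxU, -⟩ := X.isBasis_affineOpens.exists_subset_of_mem_open (Set.mem_univ x) isOpen_univ
  let s := X ↘ Spec (CommRingCat.of k)
  let c : k →+* Γ(X, U) :=
    (s.appLE ⊤ U le_top).hom.comp (Scheme.ΓSpecIso (CommRingCat.of k)).inv.hom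
  have hc : c.FiniteType := (s.finiteType_appLE (isAffineOpen_top _) hU le_top).comp
    (RingHom.FiniteType.of_surjective _
      (ConcreteCategory.bijective_of_isIso (Scheme.ΓSpecIso (CommRingCat.of k)).inv).2)
  letI := c.toAlgebra
  haveI : Algebra.FiniteType k Γ(X, U) := hc
  have hN := Groth.Agent.CAlgH.isNagata_of_finiteType (Groth.Agent.NormalizationLib.isNagata_field k) Γ(X, U)
  letI := (X.presheaf.germ U x hxU).hom.toAlgebra
  haveI := hU.isLocalization_stalk ⟨x, hxU⟩
  exact Groth.Agent.CAlgH.isNagata_of_ringEquiv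
    (IsLocalization.algEquiv (hU.primeIdealOf ⟨x, hxU⟩).asIdeal.primeCompl
      (Localization (hU.primeIdealOf ⟨x, hxU⟩).asIdeal.primeCompl) (X.presheaf.stalk x)).toRingEquiv
    (Groth.Agent.S4710.result _ hN _)

variable (K : Type u) [Field K] [Algebra k K]

/-- The local ring of the base change as a localization of `O_x ⊗ K`. -/
theorem exists_localization (y : ↥(Curv2.bc k X K)) :
    ∃ (P : Ideal (X.presheaf.stalk ((Curv2.bcFst k X K) y) ⊗[k] K)) (_ : P.IsPrime),
      P.comap (algebraMap (X.presheaf.stalk ((Curv2.bcFst k X K) y))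
        (X.presheaf.stalk ((Curv2.bcFst k X K) y) ⊗[k] K)) = maximalIdeal _ ∧
      IsNoetherianRing (Localization.AtPrime P) ∧
      Nonempty ((Curv2.bc k X K).presheaf.stalk y ≃+* Localization.AtPrime P) := by
  obtain ⟨P, hP⟩ := exists_bcLoc_eq k X K ((Curv2.bcFst k X K) y) y specializes_rfl
  obtain ⟨e⟩ := nonempty_stalk_bcLoc_equiv k X K ((Curv2.bcFst k X K) y) P
  have h := bcFst_bcLoc k X K ((Curv2.bcFst k X K) y) P
  rw [hP] at h
  rw [hP] at e
  refine ⟨P.asIdeal, P.2, ?_, ?_, ⟨e⟩⟩
  · have h' : X.fromSpecStalk _ (closedPoint (X.presheaf.stalk ((Curv2.bcFst k X K) y))) =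
        X.fromSpecStalk _ (PrimeSpectrum.comap (algebraMap _ _) P) := Scheme.fromSpecStalk_closedPoint.trans h
    exact (congrArg PrimeSpectrum.asIdeal ((X.fromSpecStalk _).isEmbedding.injective h')).symm
  · haveI : LocallyOfFiniteType (Curv2.bcSnd k X K) := inferInstance
    haveI : IsLocallyNoetherian (Curv2.bc k X K) := LocallyOfFiniteType.isLocallyNoetherian (Curv2.bcSnd k X K)
    exact isNoetherianRing_of_ringEquiv _ e

theorem deltaInv_le_bc (y : Curv2.bc k X K) (hx : Curv2.IsGeomReducedAt k X (Curv2.bcFst k X K y))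
    (hdx : ringKrullDim (X.presheaf.stalk (Curv2.bcFst k X K y)) = 1) :
    Curv2.deltaInv (X.presheaf.stalk (Curv2.bcFst k X K y)) ≤
      Curv2.deltaInv ((Curv2.bc k X K).presheaf.stalk y) := by
  obtain ⟨P, _, hP, _, ⟨e⟩⟩ := exists_localization k X K y
  haveI := isLocalHom P hP
  haveI := hx K y rfl
  haveI : _root_.IsReduced (Localization.AtPrime P) := isReduced_of_injective e.symm e.symm.injective
  haveI := Module.FaithfullyFlat.of_flat_of_isLocalHom (A := X.presheaf.stalk (Curv2.bcFst k X K y))
    (B := Localization.AtPrime P)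
  haveI : _root_.IsReduced (X.presheaf.stalk (Curv2.bcFst k X K y)) :=
    isReduced_of_injective (algebraMap (X.presheaf.stalk (Curv2.bcFst k X K y)) (Localization.AtPrime P))
      (FaithfulSMul.algebraMap_injective _ _)
  exact (deltaInv_le_localization P hP (isNagata_stalk k X _) hdx).trans_eq (deltaInv_congr e).symm

theorem isReduced_tensor_of_geometricallyReduced (l : Type u) [CommRing l] [Algebra k l]
    (h : GeometricallyReduced (Spec.map (CommRingCat.ofHom (algebraMap k l)))) :
    _root_.IsReduced (l ⊗[k] K) := by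
  haveI : AlgebraicGeometry.IsReduced (Spec (CommRingCat.of (l ⊗[k] K))) :=
    h.geometrically_isReduced (Spec.map (CommRingCat.ofHom (algebraMap k K))) _ _
      (isPullback_SpecMap_of_isPushout _ _ _ _ (CommRingCat.isPushout_tensorProduct k l K))
  exact (affine_isReduced_iff (CommRingCat.of (l ⊗[k] K))).1 this

theorem deltaInv_bc_eq [AlgebraicGeometry.IsIntegral X]
    [QuasiCompact (X.fromSpecStalk (genericPoint X))] [QuasiSeparated (X.fromSpecStalk (genericPoint X))]
    (y : ↥(Curv2.bc k X K))
    (hdx : ringKrullDim (X.presheaf.stalk ((Curv2.bcFst k X K).base y)) = 1)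
    (hsep : letI : (Curv2.normalization X).Over (Spec (CommRingCat.of k)) :=
        ⟨Curv2.normalizationι X ≫ (X ↘ (Spec (CommRingCat.of k)))⟩
      ∀ x' : ↥(Curv2.normalization X), (Curv2.normalizationι X).base x' = (Curv2.bcFst k X K).base y →
        GeometricallyReduced (Spec.map (CommRingCat.ofHom (Curv2.resMap k (Curv2.normalization X) x'))))
    (hdy : ringKrullDim ((Curv2.bc k X K).presheaf.stalk y) = 1) :
    Curv2.deltaInv (X.presheaf.stalk ((Curv2.bcFst k X K).base y)) =
      Curv2.deltaInv ((Curv2.bc k X K).presheaf.stalk y) := by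
  letI : (Curv2.normalization X).Over (Spec (CommRingCat.of k)) :=
    ⟨Curv2.normalizationι X ≫ (X ↘ (Spec (CommRingCat.of k)))⟩
  obtain ⟨P, _, hP, _, ⟨e⟩⟩ := exists_localization k X K y
  let x := (Curv2.bcFst k X K).base y
  let O := X.presheaf.stalk x
  rw [deltaInv_congr e]
  refine (deltaInv_localization_eq P (isNagata_stalk k X x) hdx
    ((ringKrullDim_eq_of_ringEquiv e).symm.trans hdy) hP fun m' _ => ?_).symm
  haveI : IsFractionRing O X.functionField := inferInstance
  let ψ : FractionRing O ≃ₐ[O] X.functionField := FractionRing.algEquiv O X.functionField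
  let σ : integralClosure O (FractionRing O) →ₐ[O] clo X x :=
    (ψ.toAlgHom.comp (integralClosure O (FractionRing O)).val).codRestrict _ fun z => z.2.map ψ.toAlgHom
  have hσ : Function.Surjective σ := fun z =>
    ⟨⟨ψ.symm z.1, z.2.map ψ.symm.toAlgHom⟩, Subtype.ext (ψ.apply_symm_apply z.1)⟩
  have hσi : Function.Injective σ := fun a b h => Subtype.ext (ψ.injective (congrArg Subtype.val h))
  haveI hM : (m'.map σ).IsMaximal := (Ideal.map_eq_top_or_isMaximal_of_surjective σ hσ ‹_›).resolve_left fun h => by
    have := congrArg (Ideal.comap σ) h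
    rw [Ideal.comap_map_of_surjective σ hσ, Ideal.comap_top, Ideal.comap_bot_of_injective σ hσi, sup_bot_eq] at this
    exact Ideal.IsMaximal.ne_top ‹_› this
  obtain ⟨⟨x', hx'⟩, hx''⟩ := (fibreToMax_bijective x).2 ⟨m'.map σ, hM⟩
  have hker : RingHom.ker (theta x x' hx') = m'.map σ := congrArg MaximalSpectrum.asIdeal hx''
  let θ : integralClosure O (FractionRing O) →+* (Curv2.normalization X).residueField x' :=
    (theta x x' hx').comp σ.toRingHom
  have hθ : RingHom.ker θ = m' := by
    show RingHom.ker ((theta x x' hx').comp σ.toRingHom) = m'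
    rw [← RingHom.comap_ker, hker]
    show Ideal.comap σ (m'.map σ) = m'
    rw [Ideal.comap_map_of_surjective σ hσ, Ideal.comap_bot_of_injective σ hσi, sup_bot_eq]
  letI : Algebra k ((Curv2.normalization X).residueField x') := (Curv2.resMap k (Curv2.normalization X) x').toAlgebra
  let θk : integralClosure O (FractionRing O) →ₐ[k] (Curv2.normalization X).residueField x' :=
    { θ with
      commutes' := fun r => (congrArg (theta x x' hx')
        ((congrArg σ (IsScalarTower.algebraMap_apply k O (integralClosure O (FractionRing O)) r)).trans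
          (σ.commutes _))).trans (congrArg ((Curv2.normalization X).residue x').hom
            ((lam_algebraMap x x' hx' (W := ⊤) trivial trivial _).trans rfl)) }
  haveI := isReduced_tensor_of_geometricallyReduced k K ((Curv2.normalization X).residueField x')
    (hsep x' hx')
  let f : (integralClosure O (FractionRing O) ⧸ m') →ₐ[k] (Curv2.normalization X).residueField x' :=
    Ideal.Quotient.liftₐ m' θk fun a ha => RingHom.mem_ker.1 (hθ.ge ha)
  have hf : Function.Injective f := RingHom.lift_injective_of_ker_le_ideal m' _ hθ.le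
  exact isReduced_of_injective (Algebra.TensorProduct.map f (AlgHom.id k K))
    (Module.Flat.rTensor_preserves_injective_linearMap f.toLinearMap hf)

end Groth.Agent.EGA43.DeltaBaseChange
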